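import Cfsg.Agent.H585.BD.RankTwo
import Cfsg.Agent.S2091

/-!
# S4932: `PSL_n(q)`, `p ∣ gcd(n, q - 1)` and `PSU_n(q)`, `p ∣ gcd(n, q + 1)` for `n < p ^ 2` are tame (helper978)
-/

set_option autoImplicit false
set_option linter.style.haveILetI false

namespace Cfsg.Agent.H978.BD

open Cfsg Cfsg.Agent.H246.Dl Cfsg.Agent.H589.BD Cfsg.Agent.H585.BD Cfsg.Agent.H133.FibPce Cfsg.Agent.H51.Mult

universe u v

variable {F : Type v} [Field F] [Fintype F] {S : Type u} [Group S] [Finite S] [IsSimpleGroup S]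
  {p : ℕ} [hp : Fact p.Prime]

theorem log_le_one {n : ℕ} (hn : n < p ^ 2) : Nat.log p n + 1 ≤ 2 := by
  have := Nat.log_lt_of_lt_pow' (b := p) (x := 2) (y := n) (by norm_num) hn
  omega

/-- `p ^ 2` does not divide a divisor of `n` -/
theorem not_sq_dvd {n m : ℕ} (hn0 : 0 < n) (hn : n < p ^ 2) : ¬ p ^ 2 ∣ Nat.gcd n m := fun h =>
  absurd (Nat.le_of_dvd hn0 (h.trans (Nat.gcd_dvd_left _ _))) (by omega)

omit [Finite S] in
/-- **`PSL_n(q)`, `p` odd, `4 ≤ n < p ^ 2`, `p ∤ q`, is tame.** -/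
theorem tame_psl (hna : ¬ IsMulCommutative S) (hp2 : p ≠ 2) {n : ℕ} (hn : 4 ≤ n) (hnp : n < p ^ 2)
    (e : S ≃* Matrix.ProjectiveSpecialLinearGroup (Fin n) F) (hpF : ¬ p ∣ Fintype.card F)
    (h42 : ¬ (n = 4 ∧ Fintype.card F = 2)) : Tame p S := by
  haveI : Finite (Matrix.SpecialLinearGroup (Fin n) F) := inferInstance
  have h1 : DlLe p 2 (Matrix.SpecialLinearGroup (Fin n) F) :=
    (H755.Dl.DlLe_ne (F := F) (n := n) (G := Matrix.SpecialLinearGroup (Fin n) F)
      (S := Matrix.SpecialLinearGroup (Fin n) F) (p := p) (f := MonoidHom.id _)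
      (ρ := Matrix.SpecialLinearGroup.toGL) (cast_ne_of hpF) Function.surjective_id
      Matrix.SpecialLinearGroup.toGL_injective).mono (log_le_one hnp)
  have hg : Nat.gcd n (Fintype.card F - 1) ≠ 0 := fun h => absurd (Nat.gcd_eq_zero_iff.1 h).1 (by omega)
  haveI : NeZero (Nat.gcd n (Fintype.card F - 1)) := ⟨hg⟩
  have hO : OutAb p S := OutAb.congr e (outAb_psl' (by omega) fun h => by
    have h3 : Nat.Coprime (p ^ 2) 2 := by
      refine Nat.Coprime.pow_left 2 ?_
      rw [Nat.coprime_primes hp.out Nat.prime_two]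
      exact hp2
    exact not_sq_dvd (by omega) hnp (h3.dvd_of_dvd_mul_left h))
  let π : Matrix.SpecialLinearGroup (Fin n) F →* S := e.symm.toMonoidHom.comp (QuotientGroup.mk' _)
  have hk : π.ker = Subgroup.center (Matrix.SpecialLinearGroup (Fin n) F) := by
    ext x
    rw [MonoidHom.mem_ker]
    change e.symm (QuotientGroup.mk' _ x) = 1 ↔ _
    rw [map_eq_one_iff _ e.symm.injective]
    exact QuotientGroup.eq_one_iff x
  have hperf : commutator (Matrix.SpecialLinearGroup (Fin n) F) = ⊤ := S0248.result n (by omega)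
  have hπ : PCE π := ⟨e.symm.surjective.comp (QuotientGroup.mk'_surjective _), hk.le, hperf⟩
  have hck : Nat.card π.ker = Nat.gcd n (Fintype.card F - 1) := by
    rw [hk, S0280.card_center_SL (by omega)]
  have hM : HasCyclicSchurMultiplier S (Nat.gcd n (Fintype.card F - 1)) :=
    H487.HasSchurMultiplier.congr_left (S2086.result rfl n (by omega) (by omega) (by
      simp only [Set.mem_insert_iff, Set.mem_singleton_iff, Prod.mk.injEq]
      omega)) e.symm
  haveI : Finite (Multiplicative (ZMod (Nat.gcd n (Fintype.card F - 1)))) := inferInstanceAs (Finite (ZMod _))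
  refine tame_two (center_simple hna) (covDl_of_cover hM hπ (m := 1) (by
    intro h
    exact hp.out.one_lt.ne' (Nat.dvd_one.1 h)) ?_ h1) hO
  rw [hck, mul_one]
  exact (Nat.card_zmod _).dvd

omit [Finite S] in
/-- **`PSU_n(q)`, `p` odd, `4 ≤ n < p ^ 2`, `p ∤ q`, is tame** (with the exception of `PSU_4(3)`, `PSU_4(2)`). -/
theorem tame_psu (hna : ¬ IsMulCommutative S) {n q : ℕ} (hn : 4 ≤ n) (hnp : n < p ^ 2)
    (hF : Fintype.card F = q ^ 2) (e : S ≃* PSU n F q) (hpF : ¬ p ∣ q)
    (h42 : ¬ (n = 4 ∧ q = 2)) (h43 : ¬ (n = 4 ∧ q = 3)) (hp2 : p ≠ 2) : Tame p S := by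
  haveI : Finite (Matrix.SpecialLinearGroup (Fin n) F) := inferInstance
  haveI : Finite (SU n F q) := inferInstance
  have hpF' : ¬ p ∣ Fintype.card F := by
    rw [hF]
    exact fun h => hpF (hp.out.dvd_of_dvd_pow h)
  have h1 : DlLe p 2 (SU n F q) := (dlLe_su (F := F) (p := p) (n := n) (q := q) (cast_ne_of hpF')).mono (log_le_one hnp)
  have hg : Nat.gcd n (q + 1) ≠ 0 := fun h => absurd (Nat.gcd_eq_zero_iff.1 h).1 (by omega)
  haveI : NeZero (Nat.gcd n (q + 1)) := ⟨hg⟩
  have hO : OutAb p S := OutAb.congr e (outAb_psu hF (by omega) (by omega) (not_sq_dvd (by omega) hnp))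
  have hperf : commutator (SU n F q) = ⊤ :=
    Cfsg.Agent.LieClassical.HermPerfect.commutator_SU_eq_top hF (by omega) (by omega)
  let π : SU n F q →* S := e.symm.toMonoidHom.comp (QuotientGroup.mk' _)
  have hk : π.ker = Subgroup.center (SU n F q) := by
    ext x
    rw [MonoidHom.mem_ker]
    change e.symm (QuotientGroup.mk' _ x) = 1 ↔ _
    rw [map_eq_one_iff _ e.symm.injective]
    exact QuotientGroup.eq_one_iff x
  have hπ : PCE π := ⟨e.symm.surjective.comp (QuotientGroup.mk'_surjective _), hk.le, hperf⟩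
  have hck : Nat.card π.ker = Nat.gcd n (q + 1) := by
    rw [hk, S0279.result hF n (by omega)]
  by_cases h62 : n = 6 ∧ q = 2
  · obtain ⟨rfl, rfl⟩ := h62
    have hM : HasSchurMultiplier S (Multiplicative (ZMod 3 × ZMod 2 × ZMod 2)) :=
      H487.HasSchurMultiplier.congr_left (S2091.result (by rw [hF]; norm_num)) e.symm
    haveI : Finite (Multiplicative (ZMod 3 × ZMod 2 × ZMod 2)) := inferInstanceAs (Finite (ZMod 3 × ZMod 2 × ZMod 2))
    refine tame_two (center_simple hna) (covDl_of_cover hM hπ (m := 4) ?_ ?_ h1) hO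
    · intro h
      have h3 : p ∣ 2 := hp.out.dvd_of_dvd_pow (n := 2) (by norm_num; exact h)
      exact hp2 ((Nat.prime_dvd_prime_iff_eq hp.out Nat.prime_two).1 h3)
    · rw [hck]
      simp
  · have hM : HasCyclicSchurMultiplier S (Nat.gcd n (q + 1)) :=
      H487.HasSchurMultiplier.congr_left (S2089.result n q hF (by omega) (by omega) (by
        simp only [Set.mem_insert_iff, Set.mem_singleton_iff, Prod.mk.injEq]
        omega)) e.symm
    haveI : Finite (Multiplicative (ZMod (Nat.gcd n (q + 1)))) := inferInstanceAs (Finite (ZMod _))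
    refine tame_two (center_simple hna) (covDl_of_cover hM hπ (m := 1) (by
      intro h
      exact hp.out.one_lt.ne' (Nat.dvd_one.1 h)) ?_ h1) hO
    rw [hck, mul_one]
    exact (Nat.card_zmod _).dvd

end Cfsg.Agent.H978.BD
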