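import Mathlib
import Cfsg.Agent.S0243
import Cfsg.Agent.S0813
import Cfsg.Agent.ClassicalGeometry.PSL2Basic
import Cfsg.Agent.H934.OutB

/-!
# `|Out (PSL_n(q))|` (helper978, for S4932)
-/

set_option autoImplicit false

namespace Cfsg.Agent.H978.BD

open Cfsg Matrix

theorem card_pgl' {F : Type*} [Field F] [Fintype F] {n : ℕ} (hn : 2 ≤ n) : Nat.card (ProjGenLinGroup (Fin n) F) =
    Nat.gcd n (Fintype.card F - 1) * Nat.card (ProjectiveSpecialLinearGroup (Fin n) F) := by
  classical
  haveI : NeZero n := ⟨by omega⟩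
  have h1 := Cfsg.Agent.S0243.result (F := F) rfl n hn
  have h2 : Nat.card (ProjGenLinGroup (Fin n) F) * (Fintype.card F - 1) = Nat.card (GL (Fin n) F) :=
    Cfsg.Agent.ClassicalGeometry.PSL2Basic.card_PGL_mul (Fin n) F
  rw [Matrix.card_GL_field, ← h1] at h2
  have h3 : 0 < Fintype.card F - 1 := by
    have := Fintype.one_lt_card (α := F)
    omega
  have h4 : Nat.card (ProjGenLinGroup (Fin n) F) * (Fintype.card F - 1) =
    (Nat.gcd n (Fintype.card F - 1) * Nat.card (ProjectiveSpecialLinearGroup (Fin n) F)) * (Fintype.card F - 1) := by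
    rw [h2]; ring
  exact Nat.eq_of_mul_eq_mul_right h3 h4

theorem two_mul_le_pow {f : ℕ} (hf : 1 ≤ f) : 2 * f ≤ 2 ^ f := by
  induction f, hf using Nat.le_induction with
  | base => norm_num
  | succ k hk ih =>
    rw [pow_succ]
    omega

/-- **the outer automorphism group** -/
theorem card_out {S : Type*} [Group S] [Finite S] [IsSimpleGroup S] (hna : ¬ IsMulCommutative S) {F : Type*} [Field F]
    [Fintype F] {n : ℕ} (hn : 3 ≤ n) (e : S ≃* ProjectiveSpecialLinearGroup (Fin n) F) :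
    ∃ g, g ≤ Fintype.card F ∧ Nat.card (Out S) = g * Nat.gcd n (Fintype.card F - 1) := by
  obtain ⟨k, hr, hk⟩ := FiniteField.card F (ringChar F)
  have := Fact.mk hr
  have h1 := Cfsg.Agent.S0813.result (F := F) (ringChar F) k k.pos hk n (by omega) (by omega)
  rw [if_neg (by omega), card_pgl' (by omega), ← mul_assoc] at h1
  have h2 : Nat.card (MulAut S) = 2 * k * Nat.gcd n (Fintype.card F - 1) * Nat.card S := by
    rw [Nat.card_congr (MulAut.congr e).toEquiv, h1, Nat.card_congr e.toEquiv]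
  refine ⟨2 * k, ?_, Cfsg.Agent.H934.OutB.card_out_of_aut hna h2⟩
  rw [hk]
  exact (two_mul_le_pow k.pos).trans (Nat.pow_le_pow_left hr.two_le _)

theorem gcd_le {n q : ℕ} (hq : 2 ≤ q) : Nat.gcd n (q - 1) ≤ q - 1 := Nat.gcd_le_right _ (by omega)

end Cfsg.Agent.H978.BD
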